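import Cfsg.Agent.Spor.Chk2
import Cfsg.Agent.Spor.ThL.D0

set_option autoImplicit false
set_option maxRecDepth 100000000
set_option Elab.async false
noncomputable section

namespace Cfsg.Agent.Spor.ThL.S

def W1 : List (List Nat) := [[1], [3], [5], [7], [9], [11]]

def W2 : List (List Nat) := [[1], [5], [7], [9], [11]]

def M3 : Nat := nat_lit 0x80000000000000f000000007c00000f00060440

def M9 : Nat := nat_lit 0x801c0000011005c0000000000fe00000fdff00000009dfc003fff0000000000000fdffc00017ffffc000000002ffff81fff100000000017ffffc00fffe0000003ffe3fde0000000fffe1ff00007fbf7c0003fefc01ff0f007fc078380f03081882000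

def M15 : Nat := nat_lit 0x7fffffff7fe3fffffeeffa3ffffffffff01fffff0200fffffff6203ffc000fffffffffffff02003fffe800003ffffffffd00007e000efffffffffe800003ff0001ffffffc001c021fffffff0001e00ffff804003fffc0103fe0000ff803f8007f0fc07e71dbbe

def U : Tab := ⟨[n0, n1, n2, n3, n4, n5], [⟨0, false, 0, 0, []⟩, ⟨0, false, 0, 0, []⟩, ⟨0, true, 0, 0, []⟩, ⟨1, false, 0, 0, []⟩, ⟨1, true, 0, 0, []⟩, ⟨2, false, 0, 0, []⟩, ⟨2, true, 0, 0, []⟩, ⟨3, false, 0, 0, []⟩, ⟨3, true, 0, 0, []⟩, ⟨4, false, 0, 0, []⟩, ⟨4, true, 0, 0, []⟩, ⟨5, false, 0, 0, []⟩, ⟨5, true, 0, 0, []⟩]⟩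

end Cfsg.Agent.Spor.ThL.S
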